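import Groth.Agent.Lib.FaltingsT3.Main
import Groth.Agent.Lib.FaltingsT3.Compare
import Groth.Agent.Lib.FaltingsD3.Main
import Groth.Agent.Lib.Kollar3.Quot
import Groth.Agent.Lib.LC.Support
import Groth.Agent.Lib.Faltings.Finite
import Groth.Prelude.Def_Formal2

/-!
# Stabilisation of local cohomology near `V(I) ∩ V(J)`
-/

set_option autoImplicit false
set_option linter.style.haveILetI false
universe u

open CategoryTheory CategoryTheory.Limits PrimeSpectrum GrothLib.DualCx22 GrothLib.DualRing GrothLib.FaltingsT3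

attribute [local instance] HasDerivedCategory.standard

namespace GrothLib.AlgzBoot3

variable {A : Type u} [CommRing A] [IsNoetherianRing A]

omit [IsNoetherianRing A] in
theorem height_map_eq (p r : PrimeSpectrum A) (hpr : p ≤ r) :
    (r.asIdeal.map (Ideal.Quotient.mk p.asIdeal)).height = Order.height (⟨r, hpr⟩ : Set.Ici p) := by
  haveI := Ideal.map_isPrime_of_surjective (f := Ideal.Quotient.mk p.asIdeal) Ideal.Quotient.mk_surjective
    (show RingHom.ker (Ideal.Quotient.mk p.asIdeal) ≤ r.asIdeal by rw [Ideal.mk_ker]; exact hpr)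
  let Q : PrimeSpectrum (A ⧸ p.asIdeal) := ⟨r.asIdeal.map (Ideal.Quotient.mk p.asIdeal), inferInstance⟩
  let e : PrimeSpectrum (A ⧸ p.asIdeal) ≃o Set.Ici p :=
    p.asIdeal.primeSpectrumQuotientOrderIsoZeroLocus.trans
      (OrderIso.setCongr _ _ (Set.ext fun q => (PrimeSpectrum.mem_zeroLocus _ _).trans Iff.rfl))
  have he : e Q = ⟨r, hpr⟩ := by
    refine Subtype.ext (PrimeSpectrum.ext ?_)
    show Ideal.comap (Ideal.Quotient.mk p.asIdeal) (r.asIdeal.map (Ideal.Quotient.mk p.asIdeal)) = r.asIdeal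
    rw [Ideal.comap_map_of_surjective' _ Ideal.Quotient.mk_surjective, Ideal.mk_ker, sup_eq_left]
    exact hpr
  rw [← he, Order.height_orderIso]
  exact PrimeSpectrum.height_eq_orderHeight Q

/-- The dimension between two primes is the height of the larger above the smaller. -/
theorem dimBetween_eq {p q : PrimeSpectrum A} (h : p ≤ q) :
    Formal2.dimBetween A p.asIdeal q.asIdeal = ((Order.height (⟨q, h⟩ : Set.Ici p) : ℕ∞) : WithBot ℕ∞) := by
  haveI := Ideal.map_isPrime_of_surjective (f := Ideal.Quotient.mk p.asIdeal) Ideal.Quotient.mk_surjective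
    (show RingHom.ker (Ideal.Quotient.mk p.asIdeal) ≤ q.asIdeal by rw [Ideal.mk_ker]; exact h)
  let q' : PrimeSpectrum (A ⧸ p.asIdeal) := ⟨q.asIdeal.map (Ideal.Quotient.mk p.asIdeal), inferInstance⟩
  have hq : q'.asIdeal.comap (Ideal.Quotient.mk p.asIdeal) = q.asIdeal := by
    show (q.asIdeal.map (Ideal.Quotient.mk p.asIdeal)).comap (Ideal.Quotient.mk p.asIdeal) = _
    rw [Ideal.comap_map_of_surjective' _ Ideal.Quotient.mk_surjective, Ideal.mk_ker, sup_eq_left]
    exact h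
  have key : ∀ (Q : Ideal A) (hQ : Q.IsPrime), Q = q'.asIdeal.comap (Ideal.Quotient.mk p.asIdeal) →
      Formal2.dimBetween A p.asIdeal Q = ((q'.asIdeal.height : ℕ∞) : WithBot ℕ∞) := by
    intro Q hQ e
    subst e
    letI : Algebra (A ⧸ p.asIdeal) (Localization.AtPrime (q'.asIdeal.comap (Ideal.Quotient.mk p.asIdeal)) ⧸
        p.asIdeal.map (algebraMap A (Localization.AtPrime (q'.asIdeal.comap (Ideal.Quotient.mk p.asIdeal))))) :=
      (Ideal.quotientMap _ (algebraMap A _) Ideal.le_comap_map).toAlgebra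
    haveI := Kollar3.isLocalization_quotient p.asIdeal q'
    exact IsLocalization.AtPrime.ringKrullDim_eq_height q'.asIdeal _
  rw [key q.asIdeal q.isPrime hq.symm]
  exact congrArg (fun z : ℕ∞ => (z : WithBot ℕ∞)) (height_map_eq p q h)

variable {ω : Dual.D A} (hω : Dual.IsDualizing A ω) (M : Type u) [AddCommGroup M] [Module A M] [Module.Finite A M]

/-- The depth at a prime. -/
noncomputable abbrev dep (p : PrimeSpectrum A) : ℕ∞ :=
  LocCoh.depth (Localization.AtPrime p.asIdeal) (LocalizedModule p.asIdeal.primeCompl M)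

theorem mem_support_of_EH {j : ℤ} {p : PrimeSpectrum A}
    (hp : p ∈ Module.support A (EH ω (Dual.inD A M) j)) : p ∈ Module.support A M := by
  by_contra hr'
  refine (nontrivial_localized_iff p.asIdeal _).mp (Module.mem_support_iff.mp hp) ?_
  refine len_EH_of_len_eq_zero ω p.asIdeal ?_ j
  by_contra h0
  exact hr' (Module.mem_support_iff.mpr ((nontrivial_localized_iff p.asIdeal M).mpr h0))

include hω in
/-- Local cohomology vanishes below the depth. -/
theorem subsingleton_local_H (p : PrimeSpectrum A) (i : ℕ) (h : (i : ℕ∞) < dep M p) :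
    Subsingleton (LocCoh.H (IsLocalRing.maximalIdeal (Localization.AtPrime p.asIdeal)) i
      (LocalizedModule p.asIdeal.primeCompl M)) := by
  refine subsingleton_of_forall_eq 0 fun x => ?_
  refine (one_smul (Localization.AtPrime p.asIdeal) x).symm.trans ?_
  rw [← map_one (algebraMap A (Localization.AtPrime p.asIdeal))]
  refine (killed_local_iff_dual hω p M i 1).mpr (fun φ => ?_) x
  by_contra hne
  push Not at hne
  have hmem : p ∈ Module.support A (EH ω (Dual.inD A M) (deg hω p.asIdeal - i)) :=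
    Module.mem_support_iff'.2 ⟨φ, fun t ht h0 => hne t ht (by rw [one_smul]; exact h0)⟩
  obtain ⟨k, hk, -, hle, -⟩ := exists_degrees hω p M (mem_support_of_EH M hmem)
  have := hle _ hmem
  rw [show dep M p = k from hk, Nat.cast_lt] at h
  omega

variable (I J : Ideal A) (s d : ℕ) {T : Set (PrimeSpectrum A)}

theorem stable (hT : ∀ p, p ∈ T ↔ ∀ q : PrimeSpectrum A, p ≤ q → I ≤ q.asIdeal → J ≤ q.asIdeal) :
    StableUnderSpecialization T := fun x y hxy hx =>
  (hT y).2 fun q hq hI => (hT x).1 hx q (((PrimeSpectrum.le_iff_specializes x y).2 hxy).trans hq) hI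

theorem mem_of_zeroLocus {J₀ : Ideal A} (hT : ∀ p, p ∈ T ↔ ∀ q : PrimeSpectrum A, p ≤ q → I ≤ q.asIdeal → J ≤ q.asIdeal)
    (hJ₀ : zeroLocus (J₀ : Set A) ∩ zeroLocus (I : Set A) = zeroLocus (J : Set A) ∩ zeroLocus (I : Set A))
    {p : PrimeSpectrum A} (hp : J₀ ≤ p.asIdeal) : p ∈ T := by
  refine (hT p).2 fun q hq hI => ?_
  have h : q ∈ zeroLocus (J₀ : Set A) ∩ zeroLocus (I : Set A) := ⟨fun a ha => hq (hp ha), hI⟩
  rw [hJ₀] at h
  exact h.1

/-- The hypotheses shared by the three statements. -/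
structure Setup (T : Set (PrimeSpectrum A)) : Prop where
  hT : ∀ p, p ∈ T ↔ ∀ q : PrimeSpectrum A, p ≤ q → I ≤ q.asIdeal → J ≤ q.asIdeal
  h3 : ∀ p : PrimeSpectrum A, ¬ I ≤ p.asIdeal → p ∈ T → ∃ q : PrimeSpectrum A, p ≤ q ∧ J ≤ q.asIdeal ∧ I ≤ q.asIdeal ∧
    Formal2.dimBetween A p.asIdeal q.asIdeal ≤ ((d : ℕ∞) : WithBot ℕ∞)
  h4 : ∀ p : PrimeSpectrum A, ¬ I ≤ p.asIdeal → p ∉ T → ∀ q : PrimeSpectrum A, p ≤ q → J ≤ q.asIdeal → I ≤ q.asIdeal →
    (s : ℕ∞) ≤ dep M p ∨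
      (((d + s : ℕ) : ℕ∞) : WithBot ℕ∞) < ((dep M p : ℕ∞) : WithBot ℕ∞) + Formal2.dimBetween A p.asIdeal q.asIdeal

variable {M I J s d}

include hω in
theorem dimBetween_deg {p q : PrimeSpectrum A} (h : p ≤ q) :
    Formal2.dimBetween A p.asIdeal q.asIdeal =
      ((((deg hω q.asIdeal - deg hω p.asIdeal).toNat : ℕ) : ℕ∞) : WithBot ℕ∞) := by
  rw [dimBetween_eq h, GrothLib.FaltingsD3.height_Ici hω h]

include hω in
theorem cond_out (S : Setup M I J s d T) {p q : PrimeSpectrum A} (hpI : ¬ I ≤ p.asIdeal) (hp : p ∉ T) (hq : q ∈ T)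
    (hpq : p ≤ q) :
    (s : WithBot ℕ∞) < ((dep M p : ℕ∞) : WithBot ℕ∞) + Order.krullDim (Set.Icc p q) := by
  rw [krullDim_Icc hω hpq]
  have hne : p ≠ q := fun e => hp (e ▸ hq)
  have hlt := degS_strictMono hω (lt_of_le_of_ne hpq hne)
  simp only [degS] at hlt
  induction hk : dep M p using ENat.recTopCoe with
  | top => exact WithBot.coe_lt_coe.2 (by simp)
  | coe k =>
    suffices h : s < k + (deg hω q.asIdeal - deg hω p.asIdeal).toNat by exact_mod_cast h
    obtain ⟨q', hqq', hJq', hIq', hbound⟩ : ∃ q' : PrimeSpectrum A, q ≤ q' ∧ J ≤ q'.asIdeal ∧ I ≤ q'.asIdeal ∧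
        (deg hω q'.asIdeal - deg hω q.asIdeal).toNat ≤ d := by
      by_cases hqI : I ≤ q.asIdeal
      · exact ⟨q, le_rfl, (S.hT q).1 hq q le_rfl hqI, hqI, by simp⟩
      · obtain ⟨q', h1, h2, h3, h4⟩ := S.h3 q hqI hq
        refine ⟨q', h1, h2, h3, ?_⟩
        rw [dimBetween_deg hω h1] at h4
        exact_mod_cast h4
    have hdeg' := (degS_strictMono hω).monotone hqq'
    simp only [degS] at hdeg'
    rcases S.h4 p hpI hp q' (hpq.trans hqq') hJq' hIq' with h | h
    · rw [hk] at h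
      have : s ≤ k := by exact_mod_cast h
      omega
    · rw [hk, dimBetween_deg hω (hpq.trans hqq')] at h
      have : d + s < k + (deg hω q'.asIdeal - deg hω p.asIdeal).toNat := by exact_mod_cast h
      omega

include hω in
/-- The ideal of the finitely many bad components. -/
theorem exists_bad_ideal (S : Setup M I J s d T) :
    ∃ K : Ideal A, zeroLocus (K : Set A) ⊆ T ∧
      ∀ p ∈ T, ¬ I ≤ p.asIdeal → ¬ (s : ℕ∞) < dep M p → K ≤ p.asIdeal := by
  classical
  obtain ⟨lo, hi, hrange⟩ := exists_deg_range hω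
  choose X hXf eX using fun j : ℤ => exists_finite_hom_equiv hω (Dual.inD A M) (finite_HD_inD M) j
  let R : ℤ → Set (Ideal A) := fun j => {r ∈ (Module.annihilator A (X j)).minimalPrimes | zeroLocus (r : Set A) ⊆ T}
  have hRf : ∀ j, (R j).Finite := fun j =>
    (Ideal.finite_minimalPrimes_of_isNoetherianRing A _).subset (Set.sep_subset _ _)
  refine ⟨∏ j ∈ Finset.Icc (lo - s) hi, ∏ r ∈ (hRf j).toFinset, r,
    GrothLib.LCSupp.mem_prod _ _ fun j _ => GrothLib.LCSupp.mem_prod _ _ fun r hr => ((hRf j).mem_toFinset.1 hr).2,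
    fun p hpT hpI hbad => ?_⟩
  obtain ⟨k, hk, hks⟩ : ∃ k : ℕ, dep M p = k ∧ k ≤ s := by
    rw [not_lt] at hbad
    obtain ⟨k, hk⟩ := ENat.ne_top_iff_exists.1 (ne_top_of_le_ne_top (ENat.coe_ne_top s) hbad)
    exact ⟨k, hk.symm, by rw [← hk] at hbad; exact_mod_cast hbad⟩
  have hpM : p ∈ Module.support A M := by
    by_contra hpM
    haveI : Subsingleton (LocalizedModule p.asIdeal.primeCompl M) := Module.notMem_support_iff.mp hpM
    rw [show dep M p = ⊤ from GrothLib.Depth.depth_eq_top_of_subsingleton _] at hk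
    exact ENat.top_ne_coe k hk
  obtain ⟨k', hk', hmem, -, -⟩ := exists_degrees hω p M hpM
  obtain rfl : k = k' := by
    have : ((k : ℕ) : ℕ∞) = k' := hk.symm.trans hk'
    exact_mod_cast this
  let j := deg hω p.asIdeal - (k : ℤ)
  haveI := hXf j
  have hsupp : ∀ r : PrimeSpectrum A, r ∈ Module.support A (EH ω (Dual.inD A M) j) ↔
      Module.annihilator A (X j) ≤ r.asIdeal := fun r => by
    rw [← Module.mem_support_iff_of_finite (M := X j), LinearEquiv.support_eq (eX j).some]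
  obtain ⟨r, hr, hrp⟩ := Ideal.exists_minimalPrimes_le ((hsupp p).1 hmem)
  haveI : r.IsPrime := hr.1.1
  let r' : PrimeSpectrum A := ⟨r, inferInstance⟩
  have hrT : r' ∈ T := by
    by_contra hrT
    have hrI : ¬ I ≤ r := fun h => hpI (h.trans hrp)
    have hrmem : r' ∈ Module.support A (EH ω (Dual.inD A M) j) := (hsupp r').2 hr.1.2
    obtain ⟨kr, hkr, -, hle, -⟩ := exists_degrees hω r' M (mem_support_of_EH M hrmem)
    have h1 := hle j hrmem
    have h2 := cond_out hω S (p := r') (q := p) hrI hrT hpT hrp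
    rw [show dep M r' = kr from hkr, krullDim_Icc hω (show r' ≤ p from hrp)] at h2
    have h3 : s < kr + (deg hω p.asIdeal - deg hω r'.asIdeal).toNat := by exact_mod_cast h2
    have h4 := (degS_strictMono hω).monotone (show r' ≤ p from hrp)
    simp only [degS] at h4
    omega
  have hmemR : r ∈ R j := ⟨hr, fun q hq =>
    (stable I J S.hT) ((PrimeSpectrum.le_iff_specializes r' q).1 hq) hrT⟩
  have hjI : j ∈ Finset.Icc (lo - s) hi := by
    rw [Finset.mem_Icc]
    have := hrange p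
    simp only [degS] at this
    omega
  exact (Ideal.le_of_dvd ((Finset.dvd_prod_of_mem (fun r : Ideal A => r) ((hRf j).mem_toFinset.2 hmemR)).trans
    (Finset.dvd_prod_of_mem (fun j => ∏ r ∈ (hRf j).toFinset, r) hjI))).trans hrp

include hω in
theorem depthCond_T (S : Setup M I J s d T) {p q : PrimeSpectrum A} (hgood : p ∈ T → (s : ℕ∞) < dep M p)
    (hpI : ¬ I ≤ p.asIdeal) (hq : q ∈ T) (hpq : p ≤ q) :
    (s : WithBot ℕ∞) < ((dep M p : ℕ∞) : WithBot ℕ∞) + Order.krullDim (Set.Icc p q) := by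
  by_cases hpT : p ∈ T
  · refine lt_of_lt_of_le (WithBot.coe_lt_coe.2 (hgood hpT)) (le_add_of_nonneg_right ?_)
    rw [krullDim_Icc hω hpq]
    exact WithBot.coe_le_coe.2 zero_le
  · exact cond_out hω S hpI hpT hq hpq

include hω in
/-- Annihilation by a power of `L`. -/
theorem exists_pow_killing' {J₀ : Ideal A} (L : Ideal A)
    (hcond : ∀ p q : PrimeSpectrum A, ¬ L ≤ p.asIdeal → J₀ ≤ q.asIdeal → p ≤ q →
      (s : WithBot ℕ∞) < ((dep M p : ℕ∞) : WithBot ℕ∞) + Order.krullDim (Set.Icc p q)) :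
    ∃ n : ℕ, ∀ a ∈ L ^ n, ∀ i : ℕ, i ≤ s → ∀ x : LocCoh.H J₀ i M, a • x = 0 := by
  obtain ⟨K, hK, hKk⟩ := (annihilator_iff (M := M) hω (T := zeroLocus (J₀ : Set A)) (T' := zeroLocus (L : Set A))
    (isClosed_zeroLocus _).stableUnderSpecialization (isClosed_zeroLocus _).stableUnderSpecialization s).2
    fun p q hp hq hpq => hcond p q hp hq hpq
  have hle : L ≤ K.radical := fun x hx => by
    rw [Ideal.radical_eq_sInf, Ideal.mem_sInf]
    exact fun {P} hP => hK (show (⟨P, hP.2⟩ : PrimeSpectrum A) ∈ zeroLocus (K : Set A) from hP.1) hx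
  obtain ⟨n, hn⟩ := Ideal.exists_pow_le_of_le_radical_of_fg hle (IsNoetherian.noetherian _)
  exact ⟨n, fun a ha i hi x =>
    (killed_zeroLocus_iff J₀ a i (ModuleCat.of A M)).1 (fun y => hKk i hi a (hn ha) y) x⟩

include hω in
/-- Annihilation by a power of `J₀ I`. -/
theorem exists_pow_killing {J₀ : Ideal A} (S : Setup M I J s d T) (hsub : zeroLocus (J₀ : Set A) ⊆ T)
    (hgood : ∀ p ∈ T, ¬ I ≤ p.asIdeal → ¬ J₀ ≤ p.asIdeal → (s : ℕ∞) < dep M p)
    (L : Ideal A) (hL : ∀ p : PrimeSpectrum A, ¬ L ≤ p.asIdeal → ¬ J₀ ≤ p.asIdeal ∧ ¬ I ≤ p.asIdeal) :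
    ∃ n : ℕ, ∀ a ∈ L ^ n, ∀ i : ℕ, i ≤ s → ∀ x : LocCoh.H J₀ i M, a • x = 0 :=
  exists_pow_killing' hω L fun p _ hp hq hpq =>
    depthCond_T hω S (fun h => hgood p h (hL p hp).2 (hL p hp).1) (hL p hp).2 (hsub hq) hpq

include hω in
/-- Annihilation by a power of `I`. -/
theorem exists_pow_killing_I (S : Setup M I J s d T) (hJT : zeroLocus (J : Set A) ⊆ T)
    (h6 : ∀ p : PrimeSpectrum A, ¬ I ≤ p.asIdeal → p ∈ T → (s : ℕ∞) < dep M p) :
    ∃ n : ℕ, ∀ a ∈ I ^ n, ∀ i : ℕ, i ≤ s → ∀ x : LocCoh.H J i M, a • x = 0 :=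
  exists_pow_killing' hω I fun p _ hp hq hpq => depthCond_T hω S (h6 p hp) hp (hJT hq) hpq

include hω in
/-- Finiteness, with the extra hypothesis on `V(I)`. -/
theorem exists_killing_finite {J₀ : Ideal A} (S : Setup M I J s d T)
    (h₀ : zeroLocus (J₀ : Set A) ∩ zeroLocus (I : Set A) = zeroLocus (J : Set A) ∩ zeroLocus (I : Set A))
    (hsub : zeroLocus (J₀ : Set A) ⊆ T)
    (hgood : ∀ p ∈ T, ¬ I ≤ p.asIdeal → ¬ J₀ ≤ p.asIdeal → (s : ℕ∞) < dep M p)
    (h2 : ∀ p : PrimeSpectrum A, I ≤ p.asIdeal → ¬ J ≤ p.asIdeal → ∀ q : PrimeSpectrum A, p ≤ q → J ≤ q.asIdeal →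
      I ≤ q.asIdeal → ((s : ℕ∞) : WithBot ℕ∞) < ((dep M p : ℕ∞) : WithBot ℕ∞) + Formal2.dimBetween A p.asIdeal q.asIdeal) :
    ∀ i : ℕ, i ≤ s → Module.Finite A (LocCoh.H J₀ i M) := by
  obtain ⟨n, hn⟩ := exists_pow_killing' hω J₀ (M := M) (s := s) (J₀ := J₀) fun p q hp hq hpq => by
    by_cases hpI : I ≤ p.asIdeal
    · have hqI : q ∈ zeroLocus (J : Set A) ∩ zeroLocus (I : Set A) := h₀ ▸ ⟨hq, fun a ha => hpq (hpI ha)⟩
      have hpJ : ¬ J ≤ p.asIdeal := fun h => hp (show p ∈ zeroLocus (J₀ : Set A) ∩ zeroLocus (I : Set A) from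
        h₀.symm ▸ ⟨h, hpI⟩).1
      have h := h2 p hpI hpJ q hpq hqI.1 hqI.2
      rw [dimBetween_deg hω hpq] at h
      rw [krullDim_Icc hω hpq]
      exact h
    · exact depthCond_T hω S (fun h => hgood p h hpI hp) hpI (hsub hq) hpq
  exact fun i hi => GrothLib.Faltings.finite_of_killed i M fun j hj x hx =>
    ⟨n, fun z => hn (x ^ n) (Ideal.pow_mem_pow hx n) j (hj.trans hi) z⟩

include hω in
/-- Comparison maps are bijective where the depth is large. -/
theorem bijective_hmap {J₀ J' : Ideal A} (hle : J' ≤ J₀)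
    (h : ∀ p : PrimeSpectrum A, J' ≤ p.asIdeal → ¬ J₀ ≤ p.asIdeal → (s : ℕ∞) < dep M p) (i : ℕ) (hi : i ≤ s) :
    Function.Bijective ((Dual2.HmapOfLE hle i).app (ModuleCat.of A M)).hom :=
  ⟨GrothLib.LC.hmap_injective_of_punctual (ModuleCat.of A M) i J' J₀ hle fun p hp hp' j hj =>
      subsingleton_local_H hω M p j (lt_of_le_of_lt (Nat.cast_le.2 (by omega)) (h p hp hp')),
    GrothLib.LC.hmap_surjective_of_punctual (ModuleCat.of A M) i J' J₀ hle fun p hp hp' =>
      subsingleton_local_H hω M p i (lt_of_le_of_lt (Nat.cast_le.2 hi) (h p hp hp'))⟩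

include hω in
/-- **The stabilising ideal.** -/
theorem exists_J₀ (S : Setup M I J s d T) :
    ∃ J₀ : Ideal A, J₀ ≤ J ∧
      zeroLocus (J₀ : Set A) ∩ zeroLocus (I : Set A) = zeroLocus (J : Set A) ∩ zeroLocus (I : Set A) ∧
      zeroLocus (J₀ : Set A) ⊆ T ∧ ∀ p ∈ T, ¬ I ≤ p.asIdeal → ¬ J₀ ≤ p.asIdeal → (s : ℕ∞) < dep M p := by
  obtain ⟨K, hK, hbad⟩ := exists_bad_ideal hω S
  have hJT : zeroLocus (J : Set A) ⊆ T := fun p hp => (S.hT p).2 fun q hq _ a ha => hq (hp ha)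
  have hsub : zeroLocus ((J * K : Ideal A) : Set A) ⊆ T := GrothLib.LCSupp.mem_mul hJT hK
  refine ⟨J * K, Ideal.mul_le_left, ?_, hsub, fun p hp hpI hpJ => ?_⟩
  · refine Set.Subset.antisymm (fun p hp => ⟨(S.hT p).1 (hsub hp.1) p le_rfl hp.2, hp.2⟩)
      (Set.inter_subset_inter_left _ (zeroLocus_anti_mono_ideal Ideal.mul_le_left))
  · by_contra hb
    exact hpJ (Ideal.mul_le_right.trans (hbad p hp hpI hb))

include hω in
theorem bijective_sub {J₀ J' : Ideal A} (S : Setup M I J s d T) (hle : J' ≤ J₀)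
    (h₀ : zeroLocus (J₀ : Set A) ∩ zeroLocus (I : Set A) = zeroLocus (J : Set A) ∩ zeroLocus (I : Set A))
    (h' : zeroLocus (J' : Set A) ∩ zeroLocus (I : Set A) = zeroLocus (J : Set A) ∩ zeroLocus (I : Set A))
    (hgood : ∀ p ∈ T, ¬ I ≤ p.asIdeal → ¬ J₀ ≤ p.asIdeal → (s : ℕ∞) < dep M p) (i : ℕ) (hi : i ≤ s) :
    Function.Bijective ((Dual2.HmapOfLE hle i).app (ModuleCat.of A M)).hom := by
  refine bijective_hmap hω hle (fun p hp hp' => hgood p (mem_of_zeroLocus I J S.hT h' hp) (fun hI => hp' ?_) hp') i hi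
  have : p ∈ zeroLocus (J₀ : Set A) ∩ zeroLocus (I : Set A) := by
    rw [h₀, ← h']
    exact ⟨hp, hI⟩
  exact this.1

end GrothLib.AlgzBoot3
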